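import Mathlib

set_option autoImplicit false
universe u

open TensorProduct KaehlerDifferential

namespace Groth.Agent.H5.ExtIso

variable {A B : Type u} [CommRing A] [CommRing B] [Algebra A B]

section
variable (P : Algebra.Extension.{u} A B)

/-- the "d" map `E → B ⊗_E Ω_{E/A}` -/
noncomputable def dd (x : P.Ring) : P.CotangentSpace := (1 : B) ⊗ₜ[P.Ring] D A P.Ring x

lemma dd_add (x y : P.Ring) : dd P (x + y) = dd P x + dd P y := by
  simp [dd, tmul_add]

lemma dd_sub (x y : P.Ring) : dd P (x - y) = dd P x - dd P y := by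
  simp [dd, tmul_sub]

lemma dd_zero : dd P 0 = 0 := by simp [dd]

lemma dd_one : dd P 1 = 0 := by simp [dd]

lemma dd_algebraMap (a : A) : dd P (algebraMap A P.Ring a) = 0 := by simp [dd]

lemma dd_mul (x y : P.Ring) :
    dd P (x * y) = algebraMap P.Ring B x • dd P y + algebraMap P.Ring B y • dd P x := by
  unfold dd
  rw [Derivation.leibniz, tmul_add, tmul_smul, tmul_smul, algebraMap_smul, algebraMap_smul]

lemma toKaehler_dd (x : P.Ring) : P.toKaehler (dd P x) = D A B (algebraMap P.Ring B x) := by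
  simp [dd, Algebra.Extension.toKaehler]

lemma cotangentComplex_mk' (z : P.ker) : P.cotangentComplex (.mk z) = dd P z.1 := rfl

lemma eq_zero_of_dd (hsq : P.ker ^ 2 = ⊥) (hc : Function.Injective P.cotangentComplex)
    (x : P.Ring) (h1 : algebraMap P.Ring B x = 0) (h2 : dd P x = 0) : x = 0 := by
  have hx : x ∈ P.ker := by
    rw [RingHom.mem_ker]; exact h1
  have h3 : P.cotangentComplex (.mk ⟨x, hx⟩) = 0 := by
    rw [cotangentComplex_mk']; exact h2
  have h4 : Algebra.Extension.Cotangent.mk (P := P) ⟨x, hx⟩ = 0 := hc (by rw [h3, map_zero])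
  rw [Algebra.Extension.Cotangent.mk_eq_zero_iff, hsq] at h4
  exact h4

lemma eq_of_dd (hsq : P.ker ^ 2 = ⊥) (hc : Function.Injective P.cotangentComplex)
    (x y : P.Ring) (h1 : algebraMap P.Ring B x = algebraMap P.Ring B y) (h2 : dd P x = dd P y) :
    x = y := by
  rw [← sub_eq_zero]
  apply eq_zero_of_dd P hsq hc
  · rw [map_sub, h1, sub_self]
  · rw [dd_sub, h2, sub_self]

end

section
variable (P P' : Algebra.Extension.{u} A B)

lemma exists_lift (e₂ : P.CotangentSpace →ₗ[B] P'.CotangentSpace)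
    (h₂ : ∀ y, P'.toKaehler (e₂ y) = P.toKaehler y) (x : P.Ring) :
    ∃ x' : P'.Ring, algebraMap P'.Ring B x' = algebraMap P.Ring B x ∧ dd P' x' = e₂ (dd P x) := by
  obtain ⟨y', hy'⟩ := P'.algebraMap_surjective (algebraMap P.Ring B x)
  have h1 : P'.toKaehler (e₂ (dd P x) - dd P' y') = 0 := by
    rw [map_sub, h₂, toKaehler_dd, toKaehler_dd, hy', sub_self]
  obtain ⟨m', hm'⟩ := (P'.exact_cotangentComplex_toKaehler _).mp h1
  obtain ⟨z', rfl⟩ := Algebra.Extension.Cotangent.mk_surjective m'
  refine ⟨y' + z'.1, ?_, ?_⟩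
  · have : algebraMap P'.Ring B z'.1 = 0 := by
      have := z'.2
      rw [RingHom.mem_ker] at this
      exact this
    rw [map_add, this, add_zero, hy']
  · rw [dd_add, ← cotangentComplex_mk', hm']
    abel

end

end Groth.Agent.H5.ExtIso
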