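import Mathlib
import Groth.Agent.Lib.Helper5.ExtIso.A
import Groth.Agent.Lib.Helper5.Conormal.A

set_option autoImplicit false
universe u

open TensorProduct KaehlerDifferential

namespace Groth.Agent.H5.ExtIso

variable {A B : Type u} [CommRing A] [CommRing B] [Algebra A B]

theorem main_general (P P' : Algebra.Extension.{u} A B) (hsq : P.ker ^ 2 = ⊥) (hsq' : P'.ker ^ 2 = ⊥)
    (hc : Function.Injective P.cotangentComplex)
    (e₁ : P.Cotangent ≃ₗ[B] P'.Cotangent) (e₂ : P.CotangentSpace ≃ₗ[B] P'.CotangentSpace)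
    (h₁ : ∀ x, e₂ (P.cotangentComplex x) = P'.cotangentComplex (e₁ x))
    (h₂ : ∀ y, P'.toKaehler (e₂ y) = P.toKaehler y) :
    ∃ f : P.Hom P', Function.Bijective f.toRingHom ∧
      Algebra.Extension.Cotangent.map f = e₁.toLinearMap := by
  have hc' : Function.Injective P'.cotangentComplex := by
    intro x y hxy
    obtain ⟨x, rfl⟩ := e₁.surjective x
    obtain ⟨y, rfl⟩ := e₁.surjective y
    rw [← h₁, ← h₁] at hxy
    rw [hc (e₂.injective hxy)]
  have h₂' : ∀ y, P.toKaehler (e₂.symm y) = P'.toKaehler y := by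
    intro y
    rw [← h₂, LinearEquiv.apply_symm_apply]
  have hex := exists_lift P P' e₂.toLinearMap h₂
  choose f hf1 hf2 using hex
  have hf2' : ∀ x, dd P' (f x) = e₂ (dd P x) := hf2
  have hf_add : ∀ x y, f (x + y) = f x + f y := by
    intro x y
    apply eq_of_dd P' hsq' hc'
    · rw [map_add, hf1, hf1, hf1, map_add]
    · rw [dd_add, hf2', hf2', hf2', dd_add, map_add]
  have hf_mul : ∀ x y, f (x * y) = f x * f y := by
    intro x y
    apply eq_of_dd P' hsq' hc'
    · rw [map_mul, hf1, hf1, hf1, map_mul]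
    · rw [dd_mul, hf2', hf2', hf2', dd_mul, map_add, hf1, hf1, map_smul, map_smul]
  have hf_one : f 1 = 1 := by
    apply eq_of_dd P' hsq' hc'
    · rw [hf1, map_one, map_one]
    · rw [hf2', dd_one, dd_one, map_zero]
  have hf_zero : f 0 = 0 := by
    apply eq_of_dd P' hsq' hc'
    · rw [hf1, map_zero, map_zero]
    · rw [hf2', dd_zero, dd_zero, map_zero]
  have hf_alg : ∀ a : A, f (algebraMap A P.Ring a) = algebraMap A P'.Ring a := by
    intro a
    apply eq_of_dd P' hsq' hc'
    · rw [hf1, ← IsScalarTower.algebraMap_apply, ← IsScalarTower.algebraMap_apply]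
    · rw [hf2', dd_algebraMap, dd_algebraMap, map_zero]
  let F : P.Ring →+* P'.Ring :=
    { toFun := f, map_one' := hf_one, map_mul' := hf_mul, map_zero' := hf_zero,
      map_add' := hf_add }
  let FH : P.Hom P' :=
    { toRingHom := F
      toRingHom_algebraMap := fun a => by
        show f (algebraMap A P.Ring a) = _
        rw [hf_alg]; rfl
      algebraMap_toRingHom := fun x => by
        show algebraMap P'.Ring B (f x) = _
        rw [hf1]; rfl }
  refine ⟨FH, ⟨?_, ?_⟩, ?_⟩
  · intro x y hxy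
    have hxy' : f x = f y := hxy
    apply eq_of_dd P hsq hc
    · rw [← hf1, ← hf1, hxy']
    · apply e₂.injective
      rw [← hf2', ← hf2', hxy']
  · intro x'
    obtain ⟨x, hx1, hx2⟩ := exists_lift P' P e₂.symm.toLinearMap h₂' x'
    refine ⟨x, ?_⟩
    show f x = x'
    apply eq_of_dd P' hsq' hc'
    · rw [hf1, hx1]
    · rw [hf2', hx2]
      exact e₂.apply_symm_apply _
  · refine LinearMap.ext fun m => ?_
    obtain ⟨z, rfl⟩ := Algebra.Extension.Cotangent.mk_surjective m
    apply hc'
    rw [Algebra.Extension.Cotangent.map_mk, cotangentComplex_mk']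
    show dd P' (f z.1) = _
    rw [hf2', LinearEquiv.coe_coe, ← h₁, cotangentComplex_mk']

theorem main {A B : Type u} [CommRing A] [CommRing B] [Algebra A B] [IsReduced B]
    (hsm : ∀ p : PrimeSpectrum B, p.asIdeal ∈ minimalPrimes B → Algebra.IsSmoothAt A p.asIdeal)
    (P P' : Algebra.Extension.{u} A B) (hsq : P.ker ^ 2 = ⊥) (hsq' : P'.ker ^ 2 = ⊥)
    [Module.Projective B P.Cotangent]
    (e₁ : P.Cotangent ≃ₗ[B] P'.Cotangent) (e₂ : P.CotangentSpace ≃ₗ[B] P'.CotangentSpace)
    (h₁ : ∀ x, e₂ (P.cotangentComplex x) = P'.cotangentComplex (e₁ x))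
    (h₂ : ∀ y, P'.toKaehler (e₂ y) = P.toKaehler y) :
    ∃ f : P.Hom P', Function.Bijective f.toRingHom ∧
      Algebra.Extension.Cotangent.map f = e₁.toLinearMap :=
  main_general P P' hsq hsq' (Groth.Agent.H5.Conormal.main hsm P) e₁ e₂ h₁ h₂

end Groth.Agent.H5.ExtIso
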